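import Mathlib.Algebra.Polynomial.Laurent
import Mathlib.RingTheory.Polynomial.Basic
import Mathlib.LinearAlgebra.FreeModule.PID
import Mathlib.LinearAlgebra.Matrix.NonsingularInverse
import Mathlib.LinearAlgebra.Matrix.ToLin
import Mathlib.LinearAlgebra.Matrix.Basis
import Mathlib.Algebra.Polynomial.FieldDivision
import Mathlib.Algebra.Polynomial.RingDivision
import Mathlib.Data.Int.LeastGreatest
import Mathlib.Tactic.LinearCombination

/-!
Birkhoff factorization of invertible matrices over Laurent polynomials.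
-/

set_option autoImplicit false

noncomputable section

open LaurentPolynomial Matrix

namespace Groth.L14.VbP1

universe u

variable {k : Type u} [Field k] {n : ℕ}

/-- The inclusion of `k[T]`. -/
def ι : Polynomial k →+* k[T;T⁻¹] := Polynomial.toLaurent

/-- The inclusion of `k[T]` through `T ↦ T⁻¹`. -/
def κ : Polynomial k →+* k[T;T⁻¹] :=
  (invert (R := k)).toRingEquiv.toRingHom.comp Polynomial.toLaurent

theorem ι_X_pow (m : ℕ) : ι (Polynomial.X ^ m : Polynomial k) = T m := Polynomial.toLaurent_X_pow m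

theorem κ_apply (p : Polynomial k) : κ p = invert (Polynomial.toLaurent p) := rfl

theorem coeff_ι_of_neg (p : Polynomial k) {i : ℤ} (hi : i < 0) : (ι p).coeff i = 0 := by
  by_contra h
  have := Finsupp.mem_support_iff.mpr h
  rw [ι, support_coeff_toLaurent, Finset.mem_map] at this
  obtain ⟨j, -, hj⟩ := this
  simp at hj
  omega

theorem coeff_κ_of_pos (p : Polynomial k) {i : ℤ} (hi : 0 < i) : (κ p).coeff i = 0 := by
  rw [κ_apply, invert_apply]
  exact coeff_ι_of_neg p (by omega)

theorem coeff_T_mul (f : k[T;T⁻¹]) (e i : ℤ) : (T e * f).coeff i = f.coeff (i - e) := by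
  have := AddMonoidAlgebra.coeff_single_mul_apply f (1 : k) e i
  rw [one_mul, neg_add_eq_sub] at this
  exact this

theorem disjoint_shift {a b : ℤ} (hab : a < b) {p q : Polynomial k}
    (h : T b * ι p = T a * κ q) : ι p = 0 := by
  refine LaurentPolynomial.ext fun i => ?_
  by_cases hi : i < 0
  · rw [coeff_ι_of_neg p hi]; rfl
  · have := congrArg (fun f : k[T;T⁻¹] => f.coeff (i + b)) h
    simp only [coeff_T_mul, add_sub_cancel_right] at this
    rw [this, coeff_κ_of_pos q (by omega)]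
    rfl

theorem exists_split (e : ℤ) (r : k[T;T⁻¹]) :
    ∃ p q : Polynomial k, r = T (e + 1) * ι p + T e * κ q := by
  induction r using LaurentPolynomial.induction_on' with
  | add f g hf hg =>
    obtain ⟨p, q, rfl⟩ := hf
    obtain ⟨p', q', rfl⟩ := hg
    exact ⟨p + p', q + q', by simp only [map_add]; ring⟩
  | C_mul_T m a =>
    by_cases hm : e + 1 ≤ m
    · refine ⟨Polynomial.C a * Polynomial.X ^ (m - (e + 1)).toNat, 0, ?_⟩
      rw [map_zero, mul_zero, add_zero, map_mul, ι_X_pow, ι, Polynomial.toLaurent_C,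
        mul_left_comm, ← T_add, Int.toNat_of_nonneg (by omega)]
      congr 2; ring
    · refine ⟨0, Polynomial.C a * Polynomial.X ^ (e - m).toNat, ?_⟩
      rw [map_zero, mul_zero, zero_add, κ_apply, map_mul, map_mul, Polynomial.toLaurent_C,
        Polynomial.toLaurent_X_pow, invert_C, invert_T, mul_left_comm, ← T_add,
        Int.toNat_of_nonneg (by omega)]
      congr 2; ring

/-- A block upper triangular matrix. -/
def blk {R : Type*} [Zero R] (a : R) (r : Fin n → R) (M : Matrix (Fin n) (Fin n) R) :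
    Matrix (Fin (n + 1)) (Fin (n + 1)) R :=
  Matrix.of (Fin.cons (Fin.cons a r) fun i => Fin.cons 0 (M i))

section blk
variable {R S : Type*} [CommRing R] [CommRing S] (a b : R) (r s : Fin n → R)
  (M N : Matrix (Fin n) (Fin n) R)

@[simp] theorem blk_00 : blk a r M 0 0 = a := rfl
@[simp] theorem blk_0s (j : Fin n) : blk a r M 0 j.succ = r j := by simp [blk]
@[simp] theorem blk_s0 (i : Fin n) : blk a r M i.succ 0 = 0 := by simp [blk]
@[simp] theorem blk_ss (i j : Fin n) : blk a r M i.succ j.succ = M i j := by simp [blk]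

theorem blk_mul : blk a r M * blk b s N = blk (a * b) (a • s + r ᵥ* N) (M * N) := by
  ext i j
  refine Fin.cases ?_ (fun i' => ?_) i <;> refine Fin.cases ?_ (fun j' => ?_) j <;>
    simp [Matrix.mul_apply, Fin.sum_univ_succ, vecMul, dotProduct]

theorem blk_map (f : R →+* S) : (blk a r M).map f = blk (f a) (f ∘ r) (M.map f) := by
  ext i j
  refine Fin.cases ?_ (fun i' => ?_) i <;> refine Fin.cases ?_ (fun j' => ?_) j <;> simp

theorem blk_diag (d : Fin n → R) :
    blk a 0 (Matrix.diagonal d) = Matrix.diagonal (Fin.cons a d : Fin (n + 1) → R) := by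
  ext i j
  refine Fin.cases ?_ (fun i' => ?_) i <;> refine Fin.cases ?_ (fun j' => ?_) j <;>
    simp [Matrix.diagonal_apply, Fin.succ_ne_zero, (Fin.succ_ne_zero _).symm]

theorem blk_eq (A : Matrix (Fin (n + 1)) (Fin (n + 1)) R) (h : ∀ i : Fin n, A i.succ 0 = 0) :
    A = blk (A 0 0) (fun j => A 0 j.succ) (A.submatrix Fin.succ Fin.succ) := by
  ext i j
  refine Fin.cases ?_ (fun i' => ?_) i <;> refine Fin.cases ?_ (fun j' => ?_) j <;> simp [h]

theorem det_blk : (blk a r M).det = a * M.det := by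
  rw [Matrix.det_succ_column_zero, Fin.sum_univ_succ]
  have : (blk a r M).submatrix (Fin.succAbove 0) Fin.succ = M := by
    ext i j; simp
  rw [Finset.sum_eq_zero fun i _ => by simp]
  simp only [Fin.val_zero, pow_zero, one_mul, blk_00, add_zero, this]

theorem isUnit_blk (ha : IsUnit a) (hM : IsUnit M) : IsUnit (blk a r M) := by
  rw [Matrix.isUnit_iff_isUnit_det, det_blk]
  exact ha.mul ((Matrix.isUnit_iff_isUnit_det _).mp hM)

theorem blk_congr {a b : R} {r s : Fin n → R} {M N : Matrix (Fin n) (Fin n) R}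
    (h1 : a = b) (h2 : r = s) (h3 : M = N) : blk a r M = blk b s N := by
  subst h1; subst h2; subst h3; rfl

end blk

/-- A vector over a PID is a multiple of the first column of an invertible matrix. -/
theorem exists_unit_col (v : Fin (n + 1) → Polynomial k) (hv : v ≠ 0) :
    ∃ (U : Matrix (Fin (n + 1)) (Fin (n + 1)) (Polynomial k)) (a : Polynomial k),
      IsUnit U ∧ a ≠ 0 ∧ ∀ i, v i = a * U i 0 := by
  classical
  let N : Submodule (Polynomial k) (Fin (n + 1) → Polynomial k) := Submodule.span _ {v}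
  obtain ⟨m, snf⟩ := Submodule.smithNormalForm (Pi.basisFun (Polynomial k) (Fin (n + 1))) N
  have hvN : v ∈ N := Submodule.mem_span_singleton_self v
  have hm : Subsingleton (Fin m) := by
    refine ⟨fun i j => by_contra fun hij => ?_⟩
    obtain ⟨c, hc⟩ := Submodule.mem_span_singleton.mp (snf.bN i).2
    obtain ⟨c', hc'⟩ := Submodule.mem_span_singleton.mp (snf.bN j).2
    have h : c' • snf.bN i = c • snf.bN j := by
      apply Subtype.ext
      simp only [SetLike.val_smul]
      rw [← hc, ← hc', smul_smul, smul_smul, mul_comm]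
    have := congrArg (fun x => snf.bN.repr x i) h
    simp [hij, Ne.symm hij] at this
    rw [this, zero_smul] at hc'
    exact snf.bN.ne_zero j (Subtype.ext hc'.symm)
  have hv' : (⟨v, hvN⟩ : N) ≠ 0 := fun h => hv (congrArg Subtype.val h)
  obtain ⟨i, hi⟩ : ∃ i, snf.bN.repr ⟨v, hvN⟩ i ≠ 0 := by
    by_contra! hall
    exact hv' (snf.bN.repr.map_eq_zero_iff.mp (Finsupp.ext hall))
  have hsum : v = snf.bN.repr ⟨v, hvN⟩ i • snf.a i • snf.bM (snf.f i) := by
    have := snf.bN.sum_repr ⟨v, hvN⟩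
    rw [Finset.sum_eq_single i (fun j _ hj => absurd (Subsingleton.elim j i) hj)
      (fun h => absurd (Finset.mem_univ i) h)] at this
    have h2 := congrArg Subtype.val this
    rw [SetLike.val_smul, snf.snf] at h2
    exact h2.symm
  rw [smul_smul] at hsum
  let b := snf.bM.reindex (Equiv.swap (snf.f i) 0)
  refine ⟨(Pi.basisFun (Polynomial k) (Fin (n + 1))).toMatrix b,
    snf.bN.repr ⟨v, hvN⟩ i * snf.a i,
    ((Matrix.isUnit_iff_isUnit_det _).mpr ?_), ?_, fun l => ?_⟩
  · exact Matrix.isUnit_det_of_left_inverse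
      ((Pi.basisFun (Polynomial k) (Fin (n + 1))).toMatrix_mul_toMatrix_flip b |> fun h =>
        (mul_eq_one_comm).mp h)
  · intro h0
    rw [h0, zero_smul] at hsum
    exact hv hsum
  · conv_lhs => rw [hsum]
    simp [b, Module.Basis.toMatrix_apply]

/-- The relation of Birkhoff. -/
def Good (A : Matrix (Fin n) (Fin n) k[T;T⁻¹]) (e : ℤ) : Prop :=
  ∃ q p : Fin n → Polynomial k, q ≠ 0 ∧ A *ᵥ (⇑(κ (k := k)) ∘ q) = (T e : k[T;T⁻¹]) • (⇑(ι (k := k)) ∘ p)

theorem κ_injective : Function.Injective (κ (k := k)) :=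
  (invert (R := k)).injective.comp Polynomial.toLaurent_injective

theorem mulVec_ne_zero {R : Type*} [CommRing R] {U : Matrix (Fin n) (Fin n) R} (hU : IsUnit U)
    {q : Fin n → R} (hq : q ≠ 0) : U *ᵥ q ≠ 0 := fun h => hq <| by
  obtain ⟨u, rfl⟩ := hU
  have := congrArg ((↑u⁻¹ : Matrix (Fin n) (Fin n) R) *ᵥ ·) h
  simpa [Matrix.mulVec_mulVec] using this

theorem Good.conj {A B : Matrix (Fin n) (Fin n) k[T;T⁻¹]}
    {U V : Matrix (Fin n) (Fin n) (Polynomial k)} (hV : IsUnit V)
    (hA : A * V.map κ = U.map ι * B) {e : ℤ} (h : Good B e) : Good A e := by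
  obtain ⟨q, p, hq, hp⟩ := h
  refine ⟨V *ᵥ q, U *ᵥ p, mulVec_ne_zero hV hq, ?_⟩
  have h1 : κ ∘ (V *ᵥ q) = V.map κ *ᵥ (κ ∘ q) := funext fun i => RingHom.map_mulVec κ V q i
  have h2 : ι ∘ (U *ᵥ p) = U.map ι *ᵥ (ι ∘ p) := funext fun i => RingHom.map_mulVec ι U p i
  rw [h1, Matrix.mulVec_mulVec, hA, ← Matrix.mulVec_mulVec, hp, Matrix.mulVec_smul, h2]

theorem exists_lower_bound (f : k[T;T⁻¹]) : ∃ N : ℕ, ∀ m : ℕ, N ≤ m →
    ∃ p : Polynomial k, ι p = T (m : ℤ) * f := by
  obtain ⟨N, p, hp⟩ := exists_T_pow f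
  refine ⟨N, fun m hm => ⟨Polynomial.X ^ (m - N) * p, ?_⟩⟩
  rw [map_mul, ι_X_pow, ι, hp, ← mul_assoc, mul_comm (T ((m - N : ℕ) : ℤ)) f, mul_assoc, ← T_add,
    mul_comm]
  congr 2; omega

theorem exists_common_bound (A : Matrix (Fin n) (Fin n) k[T;T⁻¹]) :
    ∃ (N : ℕ) (A' : Matrix (Fin n) (Fin n) (Polynomial k)), A'.map (ι (k := k)) = (T (N : ℤ) : k[T;T⁻¹]) • A := by
  choose N hN using fun i j => exists_lower_bound (A i j)
  choose p hp using fun i j => hN i j (Finset.univ.sup fun x : Fin n × Fin n => N x.1 x.2)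
    (Finset.le_sup (f := fun x : Fin n × Fin n => N x.1 x.2) (Finset.mem_univ (i, j)))
  exact ⟨_, Matrix.of p, Matrix.ext fun i j => hp i j⟩

theorem exists_good (A : Matrix (Fin (n + 1)) (Fin (n + 1)) k[T;T⁻¹]) : ∃ e, Good A e := by
  obtain ⟨N, A', hA'⟩ := exists_common_bound A
  refine ⟨-(N : ℤ), Pi.single 0 1, fun i => A' i 0, ?_, funext fun i => ?_⟩
  · exact fun h => one_ne_zero (α := Polynomial k) (by simpa using congrFun h 0)
  · have h := congrFun (congrFun hA' i) 0
    simp only [Matrix.map_apply, Matrix.smul_apply, smul_eq_mul] at h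
    simp [Matrix.mulVec, dotProduct, Pi.single_apply, apply_ite (κ (k := k)), h, ← mul_assoc,
      ← T_add]

theorem good_bounded {A : Matrix (Fin n) (Fin n) k[T;T⁻¹]} (hA : IsUnit A) :
    ∃ N : ℤ, ∀ e, Good A e → e ≤ N := by
  obtain ⟨u, rfl⟩ := hA
  obtain ⟨N, B', hB'⟩ := exists_common_bound (↑u⁻¹ : Matrix (Fin n) (Fin n) k[T;T⁻¹])
  refine ⟨N, fun e ⟨q, p, hq, hp⟩ => le_of_not_gt fun he => hq ?_⟩
  have h := congrArg ((↑u⁻¹ : Matrix (Fin n) (Fin n) k[T;T⁻¹]) *ᵥ ·) hp
  simp only [Matrix.mulVec_mulVec, Units.inv_mul, Matrix.one_mulVec, Matrix.mulVec_smul] at h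
  funext i
  apply κ_injective
  have hi := congrFun h i
  simp only [Pi.smul_apply, smul_eq_mul, Function.comp_apply] at hi
  have hm : (B'.map ι *ᵥ (ι ∘ p)) i = ι ((B' *ᵥ p) i) := (RingHom.map_mulVec ι B' p i).symm
  rw [hB', Matrix.smul_mulVec, Pi.smul_apply, smul_eq_mul] at hm
  have hN : T e * ι ((B' *ᵥ p) i) = T (N : ℤ) * κ (q i) := by rw [← hm, hi]; ring
  have h0 := disjoint_shift he hN
  rw [h0, mul_zero] at hN
  simpa [map_zero] using (mul_eq_zero.mp hN.symm).resolve_left (isUnit_T _).ne_zero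

theorem exists_max_good {A : Matrix (Fin (n + 1)) (Fin (n + 1)) k[T;T⁻¹]} (hA : IsUnit A) :
    ∃ e, Good A e ∧ ∀ e', Good A e' → e' ≤ e :=
  Int.exists_greatest_of_bdd (good_bounded hA) (exists_good A)

theorem isUnit_eq (x : k[T;T⁻¹]) (hx : IsUnit x) :
    ∃ (c : k) (e : ℤ), c ≠ 0 ∧ x = C c * T e := by
  obtain ⟨y, hy⟩ := hx.exists_right_inv
  obtain ⟨n, p, hp⟩ := exists_T_pow x
  obtain ⟨m, r, hr⟩ := exists_T_pow y
  have h1 : p * r = Polynomial.X ^ (n + m) := by
    apply Polynomial.toLaurent_injective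
    rw [map_mul, hp, hr, Polynomial.toLaurent_X_pow, Nat.cast_add, T_add]
    linear_combination (T (n : ℤ) * T (m : ℤ)) * hy
  obtain ⟨i, -, hi⟩ := (dvd_prime_pow Polynomial.prime_X _).1
    (Dvd.intro r h1 : p ∣ Polynomial.X ^ (n + m))
  obtain ⟨w, hw⟩ := hi.symm
  obtain ⟨c, hc, hcw⟩ := Polynomial.isUnit_iff.1 w.isUnit
  refine ⟨c, (i : ℤ) - n, hc.ne_zero, ?_⟩
  have e : x = Polynomial.toLaurent p * T (-(n : ℤ)) := by
    rw [hp, mul_T_assoc, add_neg_cancel, T_zero, mul_one]
  rw [e, ← hw, ← hcw, map_mul, Polynomial.toLaurent_X_pow, Polynomial.toLaurent_C, T_sub]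
  ring

/-- A maximal exponent can be moved to the corner. -/
theorem exists_corner {A : Matrix (Fin (n + 1)) (Fin (n + 1)) k[T;T⁻¹]} (hA : IsUnit A) :
    ∃ (U V : Matrix (Fin (n + 1)) (Fin (n + 1)) (Polynomial k)) (e : ℤ)
      (r : Fin n → k[T;T⁻¹]) (M : Matrix (Fin n) (Fin n) k[T;T⁻¹]),
      IsUnit U ∧ IsUnit V ∧ IsUnit M ∧ A * V.map κ = U.map ι * blk (T e) r M ∧
        ∀ e', Good A e' → e' ≤ e := by
  obtain ⟨e, ⟨q, p, hq, hp⟩, hmax⟩ := exists_max_good hA
  obtain ⟨V, a, hV, ha, hqV⟩ := exists_unit_col q hq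
  have hp0 : p ≠ 0 := by
    intro h
    have h2 : A *ᵥ (κ ∘ q) ≠ 0 := mulVec_ne_zero hA fun h' => hq <| funext fun i =>
      κ_injective (by simpa using congrFun h' i)
    exact h2 (by rw [hp, h]; funext i; simp)
  obtain ⟨U, b, hU, hb, hpU⟩ := exists_unit_col p hp0
  have hκU : IsUnit (V.map κ) := hV.map (κ (k := k)).mapMatrix
  obtain ⟨w, hw⟩ : IsUnit (U.map ι) := hU.map (ι (k := k)).mapMatrix
  set B : Matrix (Fin (n + 1)) (Fin (n + 1)) k[T;T⁻¹] :=
    (↑w⁻¹ : Matrix _ _ _) * (A * V.map κ) with hB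
  have hAB : A * V.map κ = U.map ι * B := by rw [hB, ← hw, ← mul_assoc, Units.mul_inv, one_mul]
  have hBu : IsUnit B := (Units.isUnit w⁻¹).mul (hA.mul hκU)
  have hcol : ∀ i, κ a * B i 0 = T e * ι b * (1 : Matrix (Fin (n + 1)) (Fin (n + 1)) k[T;T⁻¹]) i 0 := by
    intro i
    have h1 : κ ∘ q = κ a • (fun j => V.map κ j 0) := funext fun j => by simp [hqV j]
    have h2 : ι ∘ p = ι b • (fun j => U.map ι j 0) := funext fun j => by simp [hpU j]
    rw [h1, h2, Matrix.mulVec_smul] at hp
    have h3 := congrArg ((↑w⁻¹ : Matrix (Fin (n + 1)) (Fin (n + 1)) k[T;T⁻¹]) *ᵥ ·) hp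
    simp only [Matrix.mulVec_smul, Matrix.mulVec_mulVec] at h3
    have h4 := congrFun h3 i
    simp only [Pi.smul_apply, smul_eq_mul] at h4
    have h5 : (((↑w⁻¹ : Matrix (Fin (n + 1)) (Fin (n + 1)) k[T;T⁻¹]) * A) *ᵥ fun j => V.map κ j 0) i = B i 0 := by
      rw [hB, ← mul_assoc]; rfl
    have h6 : ((↑w⁻¹ : Matrix (Fin (n + 1)) (Fin (n + 1)) k[T;T⁻¹]) *ᵥ fun j => U.map ι j 0) i
        = (1 : Matrix (Fin (n + 1)) (Fin (n + 1)) k[T;T⁻¹]) i 0 := by
      rw [← Units.inv_mul w, hw]; rfl
    rw [h5, h6] at h4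
    rw [h4, mul_assoc]
  have hκa : κ a ≠ 0 := (map_ne_zero_iff _ κ_injective).mpr ha
  have hz : ∀ i : Fin n, B i.succ 0 = 0 := fun i =>
    (mul_eq_zero.mp ((hcol i.succ).trans (by simp [Matrix.one_apply, Fin.succ_ne_zero]))).resolve_left hκa
  have hblk := blk_eq B hz
  have hd : IsUnit (B 0 0) ∧ IsUnit (B.submatrix Fin.succ Fin.succ).det := by
    have h7 := (Matrix.isUnit_iff_isUnit_det _).mp hBu
    have h8 : B.det = B 0 0 * (B.submatrix Fin.succ Fin.succ).det := by
      conv_lhs => rw [hblk]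
      rw [det_blk]
    exact IsUnit.mul_iff.mp (h8 ▸ h7)
  obtain ⟨c, e', hc, hce⟩ := isUnit_eq _ hd.1
  refine ⟨U * blk (Polynomial.C c) 0 1, V, e', fun j => C c⁻¹ * B 0 j.succ, _,
    hU.mul (isUnit_blk _ _ _ (Polynomial.isUnit_C.mpr hc.isUnit) isUnit_one), hV,
    (Matrix.isUnit_iff_isUnit_det _).mpr hd.2, ?_, fun e'' he'' => ?_⟩
  · rw [hAB, Matrix.map_mul, mul_assoc]
    apply congrArg (U.map ι * ·)
    rw [blk_map, blk_mul, Matrix.map_one _ (map_zero ι) (map_one ι), one_mul]
    refine hblk.trans (blk_congr ?_ ?_ rfl)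
    · rw [hce, ι, Polynomial.toLaurent_C]
    · have h1 : C c * C c⁻¹ = (1 : k[T;T⁻¹]) := by rw [← map_mul, mul_inv_cancel₀ hc, map_one]
      funext j
      simp only [Pi.add_apply, Pi.smul_apply, smul_eq_mul, ι, Polynomial.toLaurent_C, ← mul_assoc,
        h1, one_mul, Matrix.vecMul, dotProduct, Function.comp_apply, Pi.zero_apply, map_zero,
        zero_mul, Finset.sum_const_zero, add_zero]
  · refine (hmax e'' he'').trans (le_of_not_gt fun hlt => hb ?_)
    have h0 := hcol 0
    rw [Matrix.one_apply_eq, mul_one, hce] at h0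
    have h1 : T e' * κ (Polynomial.C c * a) = T e * ι b := by
      rw [← h0, map_mul, κ_apply (Polynomial.C c), Polynomial.toLaurent_C, invert_C]; ring
    exact Polynomial.toLaurent_eq_zero.mp (disjoint_shift hlt h1.symm)

/-- Birkhoff factorization. -/
theorem birkhoff : ∀ (n : ℕ) (A : Matrix (Fin n) (Fin n) k[T;T⁻¹]), IsUnit A →
    ∃ (P Q : Matrix (Fin n) (Fin n) (Polynomial k)) (d : Fin n → ℤ),
      IsUnit P ∧ IsUnit Q ∧ Antitone d ∧
        A = P.map ι * Matrix.diagonal (fun i => T (d i)) * Q.map κ := by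
  intro n
  induction n with
  | zero =>
    intro A _
    exact ⟨1, 1, fun i => i.elim0, isUnit_one, isUnit_one, fun i => i.elim0,
      Matrix.ext fun i => i.elim0⟩
  | succ n ih =>
    intro A hA
    obtain ⟨U, V, e, r, M, hU, hV, hM, hAV, hmax⟩ := exists_corner hA
    obtain ⟨P, Q, d, hP, hQ, hd, hMd⟩ := ih M hM
    obtain ⟨R, hR⟩ := hQ.exists_left_inv
    obtain ⟨R', hR'⟩ := hQ.exists_right_inv
    have hRu : IsUnit R :=
      ⟨⟨R, Q, hR, by rw [left_inv_eq_right_inv hR hR'] ; exact hR'⟩, rfl⟩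
    let r' : Fin n → k[T;T⁻¹] := r ᵥ* R.map κ
    choose p q hpq using fun j => exists_split e (r' j)
    have hQR : Q.map κ * R.map κ = 1 := by
      rw [← Matrix.map_mul, left_inv_eq_right_inv hR hR', hR', Matrix.map_one _ (map_zero κ) (map_one κ)]
    have key : blk (T e) r M * blk 1 0 (R.map κ) =
        blk 1 0 (P.map ι) * blk (T e) r' (Matrix.diagonal fun i => T (d i)) := by
      rw [blk_mul, blk_mul, hMd, mul_assoc, hQR, mul_one]
      simp [r']
    have key2 : blk (T e) r' (Matrix.diagonal fun i => T (d i)) * blk 1 (fun j => κ (-(q j))) 1 =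
        blk (T e) (fun j => T (e + 1) * ι (p j)) (Matrix.diagonal fun i => T (d i)) := by
      rw [blk_mul, mul_one, mul_one]
      congr 1
      funext j
      simp [hpq j]
    have hle : ∀ j, d j ≤ e := by
      intro j
      refine le_of_not_gt fun hlt => ?_
      have hG : Good (blk (T e) (fun j => T (e + 1) * ι (p j))
          (Matrix.diagonal fun i => T (d i))) (e + 1) := by
        refine ⟨Pi.single j.succ 1,
          Fin.cons (p j) (Pi.single j (Polynomial.X ^ (d j - (e + 1)).toNat)), ?_, funext fun i => ?_⟩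
        · exact fun h => one_ne_zero (α := Polynomial k) (by simpa using congrFun h j.succ)
        · have h1 : κ ∘ (Pi.single j.succ 1 : Fin (n + 1) → Polynomial k) = Pi.single j.succ 1 :=
            funext fun l => by simp [Pi.single_apply, apply_ite (κ (k := k))]
          rw [h1, Matrix.mulVec_single_one]
          refine Fin.cases ?_ (fun i' => ?_) i
          · simp only [Matrix.col_apply, blk_0s, Pi.smul_apply, Function.comp_apply, Fin.cons_zero,
              smul_eq_mul]
          · by_cases hij : i' = j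
            · subst hij
              simp only [Matrix.col_apply, blk_ss, Matrix.diagonal_apply_eq, Pi.smul_apply,
                Function.comp_apply, Fin.cons_succ, Pi.single_eq_same, smul_eq_mul]
              rw [ι_X_pow, ← T_add]; congr 1; omega
            · simp [hij]
      have u1 : IsUnit (V * blk 1 0 R * blk 1 (fun j => -(q j)) 1) :=
        (hV.mul (isUnit_blk _ _ _ isUnit_one hRu)).mul (isUnit_blk _ _ _ isUnit_one isUnit_one)
      have := hG.conj (A := A) (U := U * blk 1 0 P) u1 ?_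
      · exact absurd (hmax _ this) (by omega)
      · simp only [Matrix.map_mul, blk_map, map_one, Matrix.map_one _ (map_zero κ) (map_one κ)]
        rw [show (κ ∘ (0 : Fin n → Polynomial k)) = 0 from funext fun _ => map_zero κ,
          show (ι ∘ (0 : Fin n → Polynomial k)) = 0 from funext fun _ => map_zero ι]
        rw [← mul_assoc, ← mul_assoc, hAV, mul_assoc (U.map ι), key, ← mul_assoc, mul_assoc, ]
        rw [show (κ ∘ fun j => -(q j)) = fun j => κ (-(q j)) from rfl, key2]
    refine ⟨U * blk 1 0 P * blk 1 (fun j => Polynomial.X ^ (e + 1 - d j).toNat * p j) 1,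
      blk 1 q 1 * blk 1 0 Q * (↑hV.unit⁻¹ : Matrix _ _ (Polynomial k)), Fin.cons e d,
      (hU.mul (isUnit_blk _ _ _ isUnit_one hP)).mul (isUnit_blk _ _ _ isUnit_one isUnit_one),
      ((isUnit_blk _ _ _ isUnit_one isUnit_one).mul (isUnit_blk _ _ _ isUnit_one hQ)).mul
        (Units.isUnit _), ?_, ?_⟩
    · intro i j hij
      induction i using Fin.cases with
      | zero =>
        induction j using Fin.cases with
        | zero => exact le_rfl
        | succ j' => simpa using hle j'
      | succ i' =>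
        induction j using Fin.cases with
        | zero => simp at hij
        | succ j' => simpa using hd (Fin.succ_le_succ_iff.mp hij)
    · have hVinv : V.map κ * (↑hV.unit⁻¹ : Matrix _ _ (Polynomial k)).map κ = 1 := by
        rw [← Matrix.map_mul, IsUnit.mul_val_inv, Matrix.map_one _ (map_zero κ) (map_one κ)]
      have hA' : A = U.map ι * blk (T e) r M * (↑hV.unit⁻¹ : Matrix _ _ (Polynomial k)).map κ := by
        rw [← hAV, mul_assoc, hVinv, mul_one]
      have hd' : (fun i => (T ((Fin.cons e d : Fin (n + 1) → ℤ) i) : k[T;T⁻¹])) =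
          Fin.cons (T e) (fun i => T (d i)) := funext fun i => by
        refine Fin.cases ?_ (fun i' => ?_) i <;> simp
      rw [hd', ← blk_diag]
      conv_lhs => rw [hA']
      simp only [Matrix.map_mul, blk_map, map_one, Matrix.map_one _ (map_zero κ) (map_one κ),
        Matrix.map_one _ (map_zero ι) (map_one ι)]
      rw [show (κ ∘ (0 : Fin n → Polynomial k)) = 0 from funext fun _ => map_zero κ,
          show (ι ∘ (0 : Fin n → Polynomial k)) = 0 from funext fun _ => map_zero ι]
      simp only [← mul_assoc]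
      congr 1
      simp only [mul_assoc]
      apply congrArg (U.map ι * ·)
      rw [blk_mul, blk_mul, blk_mul, blk_mul, hMd]
      refine blk_congr ?_ ?_ ?_
      · simp
      · have hkey : ∀ x, T (e + 1) * ι (p x) =
            ι (Polynomial.X ^ (e + 1 - d x).toNat * p x) * T (d x) := by
          intro x
          rw [map_mul, ι_X_pow, mul_right_comm, ← T_add,
            Int.toNat_of_nonneg (by have := hle x; omega)]
          congr 2; ring
        have hr : r = r' ᵥ* Q.map κ := by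
          simp only [r', Matrix.vecMul_vecMul]
          rw [← Matrix.map_mul, hR, Matrix.map_one _ (map_zero κ) (map_one κ), Matrix.vecMul_one]
        have hr' : r' = (T e : k[T;T⁻¹]) • (⇑(κ (k := k)) ∘ q) +
            (⇑(ι (k := k)) ∘ fun x => Polynomial.X ^ (e + 1 - d x).toNat * p x) ᵥ*
              Matrix.diagonal (fun x => (T (d x) : k[T;T⁻¹])) := by
          funext x
          rw [Pi.add_apply, Matrix.vecMul_diagonal, hpq x, hkey x, add_comm]
          rfl
        rw [hr, hr', Matrix.add_vecMul, Matrix.smul_vecMul, Matrix.vecMul_vecMul]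
        simp [Matrix.vecMul_vecMul, mul_assoc]
      · simp [mul_assoc]

end Groth.L14.VbP1
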